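import Groth.Agent.SkOpenLib.Near
import Groth.Agent.SkOpenLib.Quotient
import Groth.Agent.SkOpenLib.Generization
import Groth.Agent.DepthBasicLib.Ext
import Mathlib

/-! Dimension and depth are additive near a generic point of `V(p)`. -/

set_option autoImplicit false
set_option linter.style.haveILetI false
set_option maxHeartbeats 800000

universe u

open IsLocalRing CommAlgDim SkOpenLib CategoryTheory Abelian

namespace GenAddLib

variable {A : Type u} [CommRing A] [IsNoetherianRing A] (p : Ideal A) [p.IsPrime]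

theorem hasSeqIn_iff_ext {R : Type u} [CommRing R] [IsLocalRing R] [IsNoetherianRing R] (N : Type u) [AddCommGroup N]
    [Module R N] [Module.Finite R N] (n : ℕ) : HasSeqIn (maximalIdeal R) N n ↔
      ∀ i < n, Subsingleton (Ext (ModuleCat.of R (R ⧸ maximalIdeal R)) (ModuleCat.of R N) i) :=
  (le_idealDepth_iff (maximalIdeal R) n).symm.trans (DepthBasic.le_idealDepth_iff_ext (maximalIdeal R) N n)

/-- In `0 → L → M → N → 0` the module `L` has as deep a sequence as `M` if `N` is deep enough. -/
theorem hasSeqIn_left {R : Type u} [CommRing R] [IsLocalRing R] [IsNoetherianRing R] {L M N : Type u}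
    [AddCommGroup L] [Module R L] [Module.Finite R L] [AddCommGroup M] [Module R M] [Module.Finite R M]
    [AddCommGroup N] [Module R N] [Module.Finite R N] (f : L →ₗ[R] M) (g : M →ₗ[R] N) (hf : Function.Injective f)
    (hg : Function.Surjective g) (hfg : Function.Exact f g) (r : ℕ)
    (hN : HasSeqIn (maximalIdeal R) N r) (hM : HasSeqIn (maximalIdeal R) M (r + 1)) :
    HasSeqIn (maximalIdeal R) L (r + 1) := by
  rw [hasSeqIn_iff_ext] at hN hM ⊢
  intro i hi
  let S := ShortComplex.mk (ModuleCat.ofHom f) (ModuleCat.ofHom g)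
    (by ext x; exact hfg.apply_apply_eq_zero x)
  have hS : S.ShortExact :=
    { exact := (ShortComplex.ShortExact.moduleCat_exact_iff_function_exact S).2 hfg
      mono_f := (ModuleCat.mono_iff_injective _).2 hf
      epi_g := (ModuleCat.epi_iff_surjective _).2 hg }
  refine ⟨fun a b => sub_eq_zero.1 ?_⟩
  have h0 : (a - b).comp (Ext.mk₀ S.f) (add_zero i) = 0 := (hM i hi).elim _ _
  rcases i with _ | i
  · obtain ⟨φ, hφ⟩ := (Ext.mk₀_bijective _ _).2 (a - b)
    rw [← hφ, Ext.mk₀_comp_mk₀, ← Ext.mk₀_zero] at h0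
    haveI := hS.mono_f
    rw [← hφ, (cancel_mono S.f).1 (((Ext.mk₀_bijective _ _).1 h0).trans Limits.zero_comp.symm)]
    exact Ext.mk₀_zero _ _
  · obtain ⟨y, hy⟩ := Ext.covariant_sequence_exact₁ (ModuleCat.of R (R ⧸ maximalIdeal R)) hS (a - b) h0 rfl
    have hy0 : y = 0 := (hN i (by omega)).elim _ _
    rw [← hy, hy0, Ext.zero_comp]

/-- An associated prime at which the local depth is zero. -/
theorem exists_injective (M : Type u) [AddCommGroup M] [Module A M] [Module.Finite A M] (h : ¬ HasSeqAt M p 1) :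
    ∃ g : (A ⧸ p) →ₗ[A] M, Function.Injective g := by
  haveI : IsNoetherianRing (Localization.AtPrime p) := IsLocalization.isNoetherianRing p.primeCompl _ inferInstance
  rw [HasSeqAt, hasSeqIn_one_iff] at h
  push Not at h
  obtain ⟨P, hP, hle⟩ := h
  have hPm : P = maximalIdeal _ := le_antisymm (le_maximalIdeal hP.isPrime.ne_top) hle
  have hp : p ∈ associatedPrimes A M := by
    have h1 := Module.associatedPrimes.comap_mem_associatedPrimes_of_mem_associatedPrimes_of_isLocalizedModule_of_fg
      p.primeCompl (LocalizedModule.mkLinearMap p.primeCompl M) P hP (IsNoetherian.noetherian _)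
    rwa [hPm, show (maximalIdeal (Localization.AtPrime p)).comap (algebraMap A _) = p from
      Localization.AtPrime.under_maximalIdeal] at h1
  obtain ⟨-, x, hx⟩ := isAssociatedPrime_iff.1 hp
  have hmem : ∀ a, a ∈ p ↔ a • x = 0 := fun a => by
    rw [hx, Submodule.mem_colon_singleton, Submodule.mem_bot]
  refine ⟨Submodule.liftQ p (LinearMap.toSpanSingleton A M x) fun a ha => (hmem a).1 ha, ?_⟩
  rw [← LinearMap.ker_eq_bot, Submodule.ker_liftQ, Submodule.eq_bot_iff]
  rintro _ ⟨a, ha, rfl⟩
  exact (Submodule.Quotient.mk_eq_zero p).2 ((hmem a).2 ha)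

/-- Where the depth at `p` is zero it is at most that of `A/p` near `p`. -/
theorem exists_depth_le_base (M : Type u) [AddCommGroup M] [Module A M] [Module.Finite A M] (h : ¬ HasSeqAt M p 1) :
    ∃ f ∉ p, ∀ (q : Ideal A) [q.IsPrime], p ≤ q → f ∉ q → ∀ i, HasSeqAt M q i → HasSeqAt (A ⧸ p) q i := by
  obtain ⟨g, hg⟩ := exists_injective p M h
  obtain ⟨f, hf, H⟩ := exists_depth_base p (M ⧸ LinearMap.range g)
  refine ⟨f, hf, fun q _ hpq hfq i hi => ?_⟩
  haveI : IsNoetherianRing (Localization.AtPrime q) := IsLocalization.isNoetherianRing q.primeCompl _ inferInstance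
  induction i with
  | zero => exact hasSeqIn_zero _
  | succ i ih =>
    have hC := ih (hi.mono (Nat.le_succ i))
    exact hasSeqIn_left (LocalizedModule.map q.primeCompl g) (LocalizedModule.map q.primeCompl (LinearMap.range g).mkQ)
      (LocalizedModule.map_injective q.primeCompl g hg)
      (LocalizedModule.map_surjective q.primeCompl _ (Submodule.mkQ_surjective _))
      (LocalizedModule.map_exact q.primeCompl g _ (LinearMap.exact_map_mkQ_range g)) i (H q hpq hfq i hC) hi

/-- The reverse of `exists_depth`. -/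
theorem exists_depth_le : ∀ (j : ℕ) (M : Type u) [AddCommGroup M] [Module A M] [Module.Finite A M],
    HasSeqAt M p j → ¬ HasSeqAt M p (j + 1) →
    ∃ f ∉ p, ∀ (q : Ideal A) [q.IsPrime], p ≤ q → f ∉ q → ∀ i, HasSeqAt M q (i + j) → HasSeqAt (A ⧸ p) q i
  | 0, M, _, _, _, _, hn => exists_depth_le_base p M hn
  | j + 1, M, _, _, _, hj, hn => by
    let Ap := Localization.AtPrime p
    haveI : IsNoetherianRing Ap := IsLocalization.isNoetherianRing p.primeCompl _ inferInstance
    obtain ⟨y, hy, hyreg⟩ := exists_isSMulRegular_mem ((hasSeqIn_one_iff _).1 (hj.mono (Nat.le_add_left 1 j)))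
    obtain ⟨⟨a, t⟩, hat⟩ := IsLocalization.surj p.primeCompl y
    change y * algebraMap A Ap t = algebraMap A Ap a at hat
    have haM : algebraMap A Ap a ∈ maximalIdeal Ap := hat ▸ Ideal.mul_mem_right _ _ hy
    have hap : a ∈ p := (IsLocalization.AtPrime.to_map_mem_maximal_iff Ap p a).1 haM
    have hareg : IsSMulRegular (LocalizedModule p.primeCompl M) (algebraMap A Ap a) :=
      hat ▸ hyreg.mul ((IsLocalization.map_units Ap t).isSMulRegular _)
    obtain ⟨f₀, hf₀, hkill⟩ := exists_killing (M := LinearMap.ker (LinearMap.lsmul A M a)) p fun k => by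
      have h0 : LocalizedModule.mkLinearMap p.primeCompl M k.1 = 0 := by
        refine hareg.right_eq_zero_of_smul ?_
        rw [algebraMap_smul, ← map_smul, show a • (k.1 : M) = 0 from k.2, map_zero]
      obtain ⟨c, hc⟩ := (IsLocalizedModule.eq_zero_iff p.primeCompl _).1 h0
      exact ⟨c, c.2, Subtype.ext hc⟩
    obtain ⟨E⟩ := exists_quot_equiv (M := M) p a
    obtain ⟨f, hf, H⟩ := exists_depth_le j (QuotSMulTop a M) (HasSeqIn.congr E.symm (hj.quotSMulTop haM hareg))
      fun hc => hn (hasSeqIn_succ_of_cons haM hareg (HasSeqIn.congr E hc))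
    refine ⟨f₀ * f, fun hm => ((inferInstance : p.IsPrime).mem_or_mem hm).elim hf₀ hf, fun q _ hpq hfq i hi => ?_⟩
    haveI : IsNoetherianRing (Localization.AtPrime q) := IsLocalization.isNoetherianRing q.primeCompl _ inferInstance
    have hreg : IsSMulRegular (LocalizedModule q.primeCompl M) (algebraMap A (Localization.AtPrime q) a) := by
      refine isSMulRegular_iff_right_eq_zero_of_smul.2 fun z hz => ?_
      obtain ⟨⟨m, s⟩, rfl⟩ := IsLocalizedModule.mk'_surjective q.primeCompl
        (LocalizedModule.mkLinearMap q.primeCompl M) z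
      simp only [Function.uncurry_apply_pair, algebraMap_smul, ← IsLocalizedModule.mk'_smul,
        IsLocalizedModule.mk'_eq_zero'] at hz ⊢
      obtain ⟨c, hc⟩ := hz
      have hc' : (c : A) • m ∈ LinearMap.ker (LinearMap.lsmul A M a) := by
        show a • (c : A) • m = 0
        rw [smul_comm]; exact hc
      refine ⟨⟨f₀ * c, q.primeCompl.mul_mem (fun h => hfq (Ideal.mul_mem_right _ _ h)) c.2⟩, ?_⟩
      show (f₀ * (c : A)) • m = 0
      rw [mul_smul]
      exact congrArg Subtype.val (hkill ⟨_, hc'⟩)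
    obtain ⟨E'⟩ := exists_quot_equiv (M := M) q a
    exact H q hpq (fun h => hfq (Ideal.mul_mem_left _ _ h)) i
      (HasSeqIn.congr E'.symm (HasSeqIn.quotSMulTop ((IsLocalization.AtPrime.to_map_mem_maximal_iff _ q a).2 (hpq hap))
        hreg (hi : HasSeqAt M q (i + j + 1))))

theorem exists_nat_sdep (M : Type u) [AddCommGroup M] [Module A M] [Module.Finite A M] (q : PrimeSpectrum A)
    (hq : q ∈ Module.support A M) : ∃ k : ℕ, sdep M q.asIdeal = k := by
  haveI : IsNoetherianRing (Localization.AtPrime q.asIdeal) :=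
    IsLocalization.isNoetherianRing q.asIdeal.primeCompl _ inferInstance
  haveI : Nontrivial (LocalizedModule q.asIdeal.primeCompl M) := Module.mem_support_iff.1 hq
  obtain ⟨d, hd⟩ := CommAlgDim.exists_ringKrullDim_eq (R := Localization.AtPrime q.asIdeal)
  obtain ⟨P, hP⟩ := associatedPrimes.nonempty (Localization.AtPrime q.asIdeal) (LocalizedModule q.asIdeal.primeCompl M)
  have hle : sdep M q.asIdeal ≤ d := by
    refine ENat.forall_natCast_le_iff_le.1 fun n hn => ?_
    have h := (depth_le_ringKrullDim_quotient hP ((le_depth_iff n).1 hn)).trans ((ringKrullDim_quotient_le P).trans hd.le)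
    exact_mod_cast h
  obtain ⟨k, hk⟩ := ENat.ne_top_iff_exists.1 (ne_top_of_le_ne_top (ENat.coe_ne_top d) hle)
  exact ⟨k, hk.symm⟩

/-- Depths add up near `p`. -/
theorem exists_sdep_eq (M : Type u) [AddCommGroup M] [Module A M] [Module.Finite A M]
    (hp : (⟨p, inferInstance⟩ : PrimeSpectrum A) ∈ Module.support A M) :
    ∃ f ∉ p, ∀ (q : Ideal A) [q.IsPrime], p ≤ q → f ∉ q → sdep M q = sdep M p + sdep (A ⧸ p) q := by
  obtain ⟨k, hk⟩ := exists_nat_sdep M ⟨p, inferInstance⟩ hp
  change sdep M p = (k : ℕ∞) at hk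
  obtain ⟨f₁, hf₁, H₁⟩ := exists_depth p k M ((hasSeqAt_iff M p k).2 hk.ge)
  obtain ⟨f₂, hf₂, H₂⟩ := exists_depth_le p k M ((hasSeqAt_iff M p k).2 hk.ge) fun h => by
    have := (hasSeqAt_iff M p (k + 1)).1 h
    rw [hk] at this
    exact absurd (by exact_mod_cast this : k + 1 ≤ k) (by omega)
  refine ⟨f₁ * f₂, fun hm => ((inferInstance : p.IsPrime).mem_or_mem hm).elim hf₁ hf₂, fun q _ hpq hfq => ?_⟩
  obtain ⟨r, hr⟩ := exists_nat_sdep (A ⧸ p) ⟨q, inferInstance⟩ (by
    rw [Module.support_eq_zeroLocus, Ideal.annihilator_quotient, PrimeSpectrum.mem_zeroLocus]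
    exact hpq)
  change sdep (A ⧸ p) q = (r : ℕ∞) at hr
  rw [hk, hr]
  refine le_antisymm (ENat.forall_natCast_le_iff_le.1 fun n hn => ?_) ?_
  · rcases Nat.lt_or_ge n k with h | h
    · exact_mod_cast (show n ≤ k + r by omega)
    · have h2 := H₂ q hpq (fun h' => hfq (Ideal.mul_mem_left _ _ h')) (n - k)
        (by rw [Nat.sub_add_cancel h]; exact (hasSeqAt_iff M q n).2 hn)
      rw [hasSeqAt_iff, hr] at h2
      have : n - k ≤ r := by exact_mod_cast h2
      exact_mod_cast (show n ≤ k + r by omega)
  · rw [← Nat.cast_add, Nat.add_comm, ← hasSeqAt_iff]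
    exact H₁ q hpq (fun h' => hfq (Ideal.mul_mem_right _ _ h')) r ((hasSeqAt_iff (A ⧸ p) q r).2 hr.ge)

/-- Dimensions add up near `p`. -/
theorem exists_sdim_eq (M : Type u) [AddCommGroup M] [Module A M] [Module.Finite A M]
    (hp : (⟨p, inferInstance⟩ : PrimeSpectrum A) ∈ Module.support A M) :
    ∃ f ∉ p, ∀ (q : Ideal A) [q.IsPrime], p ≤ q → f ∉ q → sdim M q = sdim M p + sdim (A ⧸ p) q := by
  obtain ⟨d, hd⟩ : ∃ d : ℕ, sdim M p = d := by
    rcases sdim_cases (M := M) p with h | h
    · exact absurd h fun h => not_subsingleton_iff_nontrivial.2 (Module.mem_support_iff.1 hp) ((sdim_eq_bot_iff M p).1 h)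
    · exact h
  obtain ⟨f, hf, H⟩ := exists_dim p d M hd.le
  refine ⟨f, hf, fun q _ hpq hfq => le_antisymm (by rw [hd, add_comm]; exact H q hpq hfq) ?_⟩
  haveI := isPrime_map_mk p q hpq
  rw [(quotient_invariants p q hpq).1, IsLocalization.AtPrime.ringKrullDim_eq_height (q.map (Ideal.Quotient.mk p)),
    sdim_eq_height M (⟨p, inferInstance⟩ : PrimeSpectrum A) hp,
    sdim_eq_height M (⟨q, inferInstance⟩ : PrimeSpectrum A) (Module.mem_support_mono hpq hp)]
  obtain ⟨h, hh⟩ := ENat.ne_top_iff_exists.1
    (Ideal.height_ne_top (Ideal.IsPrime.ne_top (I := q.map (Ideal.Quotient.mk p)) inferInstance))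
  rw [← hh, ← WithBot.coe_add]
  exact WithBot.coe_le_coe.2 (height_add_le M (⟨p, inferInstance⟩ : PrimeSpectrum A) hp h ⟨q, inferInstance⟩ hpq hh.le)

/-- `A/I` and `A/p` have the same dimension at `q` when `p` is the radical of `I`. -/
theorem sdim_eq_of_support {M N : Type u} [AddCommGroup M] [Module A M] [Module.Finite A M] [AddCommGroup N]
    [Module A N] [Module.Finite A N] (h : Module.support A M = Module.support A N) (q : Ideal A) [q.IsPrime] :
    sdim M q = sdim N q := by
  have : Module.support (Localization.AtPrime q) (LocalizedModule q.primeCompl M) =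
      Module.support (Localization.AtPrime q) (LocalizedModule q.primeCompl N) := by
    ext P
    rw [DepthTwoLib.mem_support_localized_iff, DepthTwoLib.mem_support_localized_iff, h]
  show Module.supportDim _ _ = Module.supportDim _ _
  rw [Module.supportDim, Module.supportDim, this]

/-- The local ring of `V(I)` as a localised module. -/
theorem quot_eq_sdim_sdep (I : Ideal A) (q : Ideal A) [q.IsPrime] :
    Module.supportDim (Localization.AtPrime q)
        (Localization.AtPrime q ⧸ I.map (algebraMap A (Localization.AtPrime q))) = sdim (A ⧸ I) q ∧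
      LocCoh.depth (Localization.AtPrime q)
        (Localization.AtPrime q ⧸ I.map (algebraMap A (Localization.AtPrime q))) = sdep (A ⧸ I) q := by
  rw [← Ideal.localized'_eq_map (Localization.AtPrime q) q.primeCompl I]
  exact eq_of_isLocalizedModule q (Localization.AtPrime q)
    (Submodule.toLocalizedQuotient' (Localization.AtPrime q) q.primeCompl
      (Algebra.linearMap A (Localization.AtPrime q)) I)

end GenAddLib
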